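import Mathlib
import Groth.Prelude.Def_Frob
import Groth.Prelude.Def_W4c1liftfrobW2
import Groth.Agent.Lib.Helper6.W2Ghost
import Groth.Agent.Lib.Helper2.EtThick.Main

set_option autoImplicit false
set_option backward.isDefEq.respectTransparency.types false
set_option synthInstance.maxHeartbeats 400000
set_option maxHeartbeats 4000000
set_option linter.style.haveILetI false
set_option linter.unusedSectionVars false
set_option linter.unusedVariables false
set_option linter.unusedSimpArgs false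
set_option linter.unnecessarySimpa false

/-! helper2: a lifting of Frobenius over `W₂(k)` passes to etale schemes. -/

open CategoryTheory CategoryTheory.Limits AlgebraicGeometry Opposite

universe u

namespace Groth.Agent.Helper2.W2Lift

open Groth.Agent.Lib.Helper6.W2Arith

section Ring

variable (p : ℕ) [hp : Fact p.Prime] (k : Type u) [Field k] [CharP k p] [PerfectRing k p]

theorem res_surjective : Function.Surjective (FrobAlg.res p k) := fun a =>
  ⟨tau p a, by rw [FrobAlg.res_apply, tau_coeff_zero]⟩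

theorem isClosedImmersion_SpecMap_res :
    IsClosedImmersion (Spec.map (CommRingCat.ofHom (FrobAlg.res p k))) :=
  IsClosedImmersion.spec_of_surjective _ (res_surjective p k)

theorem surjective_SpecMap_res :
    Surjective (Spec.map (CommRingCat.ofHom (FrobAlg.res p k))) := by
  constructor
  change Function.Surjective (PrimeSpectrum.comap (FrobAlg.res p k))
  rw [← Set.range_eq_univ, range_comap_of_surjective _ _ (res_surjective p k),
    PrimeSpectrum.zeroLocus_eq_univ_iff, ker_res_eq p k]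
  intro x hx
  have hx' : x ∈ Ideal.span {((p : ℕ) : FrobAlg.W2 p k)} := hx
  rw [Ideal.mem_span_singleton'] at hx'
  obtain ⟨a, rfl⟩ := hx'
  change a * ((p : ℕ) : FrobAlg.W2 p k) ∈ nilradical (FrobAlg.W2 p k)
  rw [mem_nilradical]
  refine ⟨2, ?_⟩
  rw [mul_pow, pow_two ((p : ℕ) : FrobAlg.W2 p k), p_mul_p p k, mul_zero]

end Ring

section Scheme

variable (p : ℕ) [hp : Fact p.Prime] (k : Type u) [Field k] [CharP k p] [PerfectRing k p]
  {X Xl : Scheme.{u}} (f : X ⟶ Spec (CommRingCat.of k))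
  (g : Xl ⟶ Spec (CommRingCat.of (FrobAlg.W2 p k))) (i : X ⟶ Xl)
  (hsq : IsPullback i f g (Spec.map (CommRingCat.ofHom (FrobAlg.res p k))))

include hsq in
theorem isClosedImmersion_of_isPullback : IsClosedImmersion i :=
  MorphismProperty.of_isPullback (P := @IsClosedImmersion) hsq.flip
    (isClosedImmersion_SpecMap_res p k)

include hsq in
theorem surjective_of_isPullback : Surjective i :=
  MorphismProperty.of_isPullback (P := @Surjective) hsq.flip (surjective_SpecMap_res p k)

include hsq in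
/-- (K') a morphism from a scheme of characteristic `p` to `Xl` factors through `X`. -/
theorem exists_factor {T : Scheme.{u}} (hT : ((p : ℕ) : Γ(T, ⊤)) = 0) (v : T ⟶ Xl) :
    ∃ w : T ⟶ X, w ≫ i = v := by
  obtain ⟨φ, hφ⟩ : ∃ φ : FrobAlg.W2 p k →+* Γ(T, ⊤),
      φ = ((Scheme.ΓSpecIso (CommRingCat.of (FrobAlg.W2 p k))).inv ≫ (v ≫ g).appTop).hom :=
    ⟨_, rfl⟩
  have hvg : v ≫ g = T.toSpecΓ ≫ Spec.map (CommRingCat.ofHom φ) := by
    have h1 := Scheme.toSpecΓ_naturality (v ≫ g)
    have h2 : CommRingCat.ofHom φ =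
        (Scheme.ΓSpecIso (CommRingCat.of (FrobAlg.W2 p k))).inv ≫ (v ≫ g).appTop := by
      rw [hφ]
      rfl
    rw [h2, Spec.map_comp, ← Category.assoc, ← h1, Category.assoc,
      toSpecΓ_SpecMap_ΓSpecIso_inv, Category.comp_id]
  have hle : RingHom.ker (FrobAlg.res p k) ≤ RingHom.ker φ := by
    rw [ker_res_eq p k, Ideal.span_le]
    intro x hx
    rw [Set.mem_singleton_iff] at hx
    rw [hx]
    change φ ((p : ℕ) : FrobAlg.W2 p k) = 0
    rw [map_natCast]
    exact hT
  obtain ⟨φ', hφ'⟩ : ∃ φ' : k →+* Γ(T, ⊤), φ'.comp (FrobAlg.res p k) = φ :=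
    ⟨RingHom.liftOfSurjective (FrobAlg.res p k) (res_surjective p k) ⟨φ, hle⟩,
      RingHom.liftOfRightInverse_comp _ _ _ _⟩
  have hw : v ≫ g = (T.toSpecΓ ≫ Spec.map (CommRingCat.ofHom φ')) ≫
      Spec.map (CommRingCat.ofHom (FrobAlg.res p k)) := by
    rw [Category.assoc, ← Spec.map_comp, ← CommRingCat.ofHom_comp, hφ', hvg]
  exact ⟨hsq.lift v _ hw, hsq.lift_fst _ _ _⟩

end Scheme


section Main

variable (p : ℕ) [hp : Fact p.Prime] (k : Type u) [Field k] [CharP k p] [PerfectRing k p]

theorem main18158 (X Y : Scheme.{u}) (f : X ⟶ Spec (CommRingCat.of k))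
    (q : Y ⟶ X) [Etale q] [FrobSch.IsCharP X p] [FrobSch.IsCharP Y p]
    (Xl : Scheme.{u}) (g : Xl ⟶ Spec (CommRingCat.of (FrobAlg.W2 p k))) [Flat g]
    (i : X ⟶ Xl) (hsq : IsPullback i f g (Spec.map (CommRingCat.ofHom (FrobAlg.res p k))))
    (Fl : Xl ⟶ Xl) (hF : i ≫ Fl = FrobSch.frob X p ≫ i) :
    ∃ (Yl : Scheme.{u}) (gY : Yl ⟶ Spec (CommRingCat.of (FrobAlg.W2 p k))) (j : Y ⟶ Yl)
      (Gl : Yl ⟶ Yl),
      Flat gY ∧ IsPullback j (q ≫ f) gY (Spec.map (CommRingCat.ofHom (FrobAlg.res p k))) ∧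
        j ≫ Gl = FrobSch.frob Y p ≫ j := by
  haveI hci : IsClosedImmersion i := isClosedImmersion_of_isPullback p k f g i hsq
  haveI hsurj : Surjective i := surjective_of_isPullback p k f g i hsq
  haveI : Etale (Over.mk q).hom := inferInstanceAs (Etale q)
  obtain ⟨El, e, hE, ε', hε'⟩ := Groth.Agent.Helper2.EtThick.exists_etale_lift i (Over.mk q)
  obtain ⟨ε, hε⟩ : ∃ ε : pullback e i ≅ Y, ε.hom ≫ q = pullback.snd e i := ⟨ε', hε'⟩
  haveI := hE
  haveI : FrobSch.IsCharP (pullback e i) p := FrobSch.IsCharP.of_hom (pullback.snd e i) p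
  haveI : FrobSch.IsCharP (pullback (e ≫ Fl) i) p :=
    FrobSch.IsCharP.of_hom (pullback.snd (e ≫ Fl) i) p
  obtain ⟨w, hw⟩ := exists_factor p k f g i hsq (T := pullback (e ≫ Fl) i)
    (FrobSch.natCast_eq_zero_app _ p ⊤) (pullback.fst (e ≫ Fl) i ≫ e)
  have hwF : w ≫ FrobSch.frob X p = pullback.snd (e ≫ Fl) i := by
    rw [← cancel_mono i, Category.assoc, ← hF, ← Category.assoc, hw, Category.assoc]
    exact pullback.condition
  obtain ⟨m, hm1, hm2⟩ : ∃ m : pullback (e ≫ Fl) i ⟶ pullback e i,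
      m ≫ pullback.fst e i = pullback.fst (e ≫ Fl) i ∧ m ≫ pullback.snd e i = w :=
    ⟨pullback.lift (pullback.fst (e ≫ Fl) i) w hw.symm, pullback.lift_fst _ _ _,
      pullback.lift_snd _ _ _⟩
  have hψw : (m ≫ FrobSch.frob (pullback e i) p) ≫ pullback.snd e i =
      pullback.snd (e ≫ Fl) i := by
    rw [Category.assoc, FrobSch.frob_comp p (pullback.snd e i), ← Category.assoc, hm2, hwF]
  haveI : Etale (Over.mk e).hom := inferInstanceAs (Etale e)
  obtain ⟨G, hG⟩ := (Groth.Agent.Helper7.TopInv.main0117 i (Over.mk e) (Over.mk (e ≫ Fl))).2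
    (Over.homMk (m ≫ FrobSch.frob (pullback e i) p) hψw)
  have hG' : (Over.pullback i).map G = Over.homMk (m ≫ FrobSch.frob (pullback e i) p) hψw := hG
  have hG1 : pullback.fst (e ≫ Fl) i ≫ G.left =
      (m ≫ FrobSch.frob (pullback e i) p) ≫ pullback.fst e i := by
    have h1 : ((Over.pullback i).map G).left = m ≫ FrobSch.frob (pullback e i) p := by
      rw [hG']
      rfl
    have h3 : ((Over.pullback i).map G).left ≫ pullback.fst e i =
        pullback.fst (e ≫ Fl) i ≫ G.left := pullback.lift_fst _ _ _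
    rw [← h3, h1]
  obtain ⟨c, hc1, hc2⟩ : ∃ c : pullback e i ⟶ pullback (e ≫ Fl) i,
      c ≫ pullback.fst (e ≫ Fl) i = pullback.fst e i ∧
      c ≫ pullback.snd (e ≫ Fl) i = pullback.snd e i ≫ FrobSch.frob X p :=
    ⟨pullback.lift (pullback.fst e i) (pullback.snd e i ≫ FrobSch.frob X p) (by
      rw [← Category.assoc, pullback.condition, Category.assoc, hF, Category.assoc]),
      pullback.lift_fst _ _ _, pullback.lift_snd _ _ _⟩
  have hcm : c ≫ m = 𝟙 _ := by
    apply pullback.hom_ext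
    · rw [Category.assoc, hm1, hc1, Category.id_comp]
    · rw [Category.assoc, hm2, Category.id_comp, ← cancel_mono i, Category.assoc, hw,
        ← Category.assoc, hc1, pullback.condition]
  have hfstG : pullback.fst e i ≫ G.left =
      FrobSch.frob (pullback e i) p ≫ pullback.fst e i := by
    calc pullback.fst e i ≫ G.left = (c ≫ pullback.fst (e ≫ Fl) i) ≫ G.left := by rw [hc1]
      _ = c ≫ (m ≫ FrobSch.frob (pullback e i) p) ≫ pullback.fst e i := by
        rw [Category.assoc, hG1]
      _ = (c ≫ m) ≫ FrobSch.frob (pullback e i) p ≫ pullback.fst e i := by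
        simp only [Category.assoc]
      _ = FrobSch.frob (pullback e i) p ≫ pullback.fst e i := by
        rw [hcm, Category.id_comp]
  refine ⟨El, e ≫ g, ε.inv ≫ pullback.fst e i, G.left, inferInstance, ?_, ?_⟩
  · have base := (IsPullback.of_hasPullback e i).paste_vert hsq
    refine base.of_iso ε (Iso.refl _) (Iso.refl _) (Iso.refl _) ?_ ?_ ?_ ?_
    · simp
    · rw [Iso.refl_hom, Category.comp_id, ← Category.assoc]
      congr 1
      exact hε.symm
    · simp
    · simp
  · rw [Category.assoc, hfstG, ← Category.assoc, ← FrobSch.frob_comp p ε.inv, Category.assoc]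

end Main

end Groth.Agent.Helper2.W2Lift
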